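import Cfsg.Agent.Lib.Helper10.USyl.P0

/-! USyl farm, piece BG: transport of a bipartition by a normalising element. -/

set_option autoImplicit false

namespace Cfsg.Agent.Lib.Helper10.USyl

variable {α : Type*} [Fintype α] [DecidableEq α]

omit [Fintype α] in
theorem Bip.conj {D : Subgroup (Equiv.Perm α)} {Y Y1 Y2 : Finset α} (h : Bip D Y Y1 Y2)
    {g : Equiv.Perm α} (hg : g ∈ Subgroup.normalizer (D : Set (Equiv.Perm α))) (hgY : Pres g Y) :
    Bip D Y (gim g Y1) (gim g Y2) := by
  refine ⟨?_, ?_, ?_, ?_⟩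
  · ext b
    rw [Finset.mem_union, mem_gim, mem_gim, ← Finset.mem_union, h.union]
    exact hgY.inv b
  · rw [Finset.disjoint_left]
    intro b h1 h2
    rw [mem_gim] at h1 h2
    exact Finset.disjoint_left.1 h.disj h1 h2
  · rw [card_gim, card_gim, h.card]
  · intro d hd
    have hd' : g⁻¹ * d * g ∈ D := by
      rw [Subgroup.mem_normalizer_iff.1 hg]
      have : g * (g⁻¹ * d * g) * g⁻¹ = d := by group
      rwa [this]
    have key : ∀ b, g⁻¹ (d b) = (g⁻¹ * d * g) (g⁻¹ b) := by
      intro b
      rw [Equiv.Perm.mul_apply, Equiv.Perm.mul_apply]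
      simp
    rcases h.perm _ hd' with hp | hp
    · left
      constructor
      · intro b
        rw [mem_gim, mem_gim, key, hp.1]
      · intro b
        rw [mem_gim, mem_gim, key, hp.2]
    · right
      intro b
      constructor
      · rw [mem_gim, mem_gim, key, (hp _).1]
      · rw [mem_gim, mem_gim, key, (hp _).2]

end Cfsg.Agent.Lib.Helper10.USyl
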