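import Cfsg.Agent.Lib.Helper10.USyl.P0

/-! USyl farm, piece BIP: an orbit of a 2-group splits into two halves. -/

set_option autoImplicit false

namespace Cfsg.Agent.Lib.Helper10.USyl

variable {α : Type*} [Fintype α] [DecidableEq α]

namespace BIP

/-- a subgroup of index two containing a point stabiliser -/
theorem exists_K (D : Subgroup (Equiv.Perm α)) (hD : IsPGroup 2 D) (a : α)
    (hmove : ∃ d ∈ D, d a ≠ a) :
    ∃ K : Subgroup (Equiv.Perm α), K ≤ D ∧ (∀ d ∈ D, d a = a → d ∈ K) ∧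
      (∀ d ∈ D, ∀ e ∈ D, (d * e ∈ K ↔ (d ∈ K ↔ e ∈ K))) ∧ ∃ t ∈ D, t ∉ K := by
  classical
  haveI : Fact (Nat.Prime 2) := ⟨Nat.prime_two⟩
  let S : Subgroup D :=
    { carrier := {d | (d : Equiv.Perm α) a = a}
      mul_mem' := by
        intro x y hx hy
        show ((x * y : D) : Equiv.Perm α) a = a
        rw [Subgroup.coe_mul, Equiv.Perm.mul_apply]
        rw [show (y : Equiv.Perm α) a = a from hy]
        exact hx
      one_mem' := rfl
      inv_mem' := by
        intro x hx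
        show ((x⁻¹ : D) : Equiv.Perm α) a = a
        rw [Subgroup.coe_inv, Equiv.Perm.inv_eq_iff_eq]
        exact (show (x : Equiv.Perm α) a = a from hx).symm }
  obtain ⟨N, hN⟩ := IsPGroup.iff_card.1 hD
  obtain ⟨s, hs⟩ := IsPGroup.iff_card.1 (hD.to_subgroup S)
  have hSne : S ≠ ⊤ := by
    intro h
    obtain ⟨d, hd, hda⟩ := hmove
    have : (⟨d, hd⟩ : D) ∈ S := by rw [h]; exact Subgroup.mem_top _
    exact hda this
  have hlt : s < N := by
    by_contra hcon
    push Not at hcon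
    apply hSne
    apply Subgroup.eq_top_of_card_eq
    apply le_antisymm (Subgroup.card_le_card_group S)
    rw [hN, hs]
    exact Nat.pow_le_pow_right (by norm_num) hcon
  obtain ⟨K', hK', hSK⟩ := Sylow.exists_subgroup_card_pow_prime_le 2 (n := s) (m := N - 1)
    (by rw [hN]; exact pow_dvd_pow 2 (Nat.sub_le N 1)) S hs (by omega)
  have hidx : K'.index = 2 := by
    have h1 := Subgroup.card_mul_index K'
    rw [hK', hN] at h1
    have h2 : (2 : ℕ) ^ N = 2 ^ (N - 1) * 2 := by
      rw [← pow_succ]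
      congr 1
      omega
    rw [h2] at h1
    exact Nat.eq_of_mul_eq_mul_left (by positivity) h1
  have hmem : ∀ d (hd : d ∈ D), d ∈ K'.map D.subtype ↔ (⟨d, hd⟩ : D) ∈ K' := by
    intro d hd
    rw [Subgroup.mem_map]
    constructor
    · rintro ⟨k, hk, hkd⟩
      have : k = ⟨d, hd⟩ := Subtype.ext hkd
      rwa [← this]
    · intro h
      exact ⟨_, h, rfl⟩
  refine ⟨K'.map D.subtype, ?_, ?_, ?_, ?_⟩
  · intro d hd
    obtain ⟨k, _, rfl⟩ := Subgroup.mem_map.1 hd
    exact k.2
  · intro d hd hda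
    rw [hmem d hd]
    exact hSK hda
  · intro d hd e he
    rw [hmem d hd, hmem e he, hmem _ (D.mul_mem hd he)]
    exact Subgroup.mul_mem_iff_of_index_two hidx (a := ⟨d, hd⟩) (b := ⟨e, he⟩)
  · have hne : K' ≠ ⊤ := by
      intro h
      rw [h, Subgroup.index_top] at hidx
      omega
    obtain ⟨t, -, ht⟩ := SetLike.exists_of_lt (lt_top_iff_ne_top.2 hne)
    exact ⟨t, t.2, fun h => ht ((hmem _ t.2).1 h)⟩

end BIP

theorem exists_bip (D : Subgroup (Equiv.Perm α)) (hD : IsPGroup 2 D) (Y : Finset α) (hY : IsOrb D Y)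
    (h2 : 2 ≤ Y.card) : ∃ Y1 Y2 : Finset α, Bip D Y Y1 Y2 := by
  classical
  obtain ⟨a, haY⟩ := hY.1
  have hmove : ∃ d ∈ D, d a ≠ a := by
    obtain ⟨b, hb, hba⟩ := Finset.exists_mem_ne (by omega : 1 < Y.card) a
    obtain ⟨d, hd, hda⟩ := (hY.2 a haY b).1 hb
    exact ⟨d, hd, by rw [hda]; exact hba⟩
  obtain ⟨K, hKD, hstab, hidx, t, htD, htK⟩ := BIP.exists_K D hD a hmove
  let Y1 : Finset α := Y.filter (fun b => ∃ k ∈ K, k a = b)
  let Y2 : Finset α := Y.filter (fun b => ¬ ∃ k ∈ K, k a = b)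
  have hun : Y1 ∪ Y2 = Y := Finset.filter_union_filter_not_eq _ _
  have hdisj : Disjoint Y1 Y2 := Finset.disjoint_filter_filter_not _ _ _
  have hF : ∀ d ∈ D, (d a ∈ Y1 ↔ d ∈ K) := by
    intro d hd
    constructor
    · intro h
      obtain ⟨k, hk, hka⟩ := (Finset.mem_filter.1 h).2
      have h1 : k⁻¹ * d ∈ K := by
        apply hstab _ (D.mul_mem (D.inv_mem (hKD hk)) hd)
        rw [Equiv.Perm.mul_apply, ← hka]
        simp
      have : d = k * (k⁻¹ * d) := by group
      rw [this]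
      exact K.mul_mem hk h1
    · intro h
      exact Finset.mem_filter.2 ⟨(hY.2 a haY _).2 ⟨d, hd, rfl⟩, d, h, rfl⟩
  have hY2 : ∀ b, b ∈ Y2 ↔ b ∈ Y ∧ b ∉ Y1 := by
    intro b
    constructor
    · intro h
      refine ⟨(Finset.mem_filter.1 h).1, fun h1 => ?_⟩
      exact (Finset.mem_filter.1 h).2 (Finset.mem_filter.1 h1).2
    · rintro ⟨h, h1⟩
      exact Finset.mem_filter.2 ⟨h, fun h3 => h1 (Finset.mem_filter.2 ⟨h, h3⟩)⟩
  have hY1sub : ∀ b, b ∈ Y1 → b ∈ Y := fun b h => (Finset.mem_filter.1 h).1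
  have hG : ∀ d ∈ D, ∀ b ∈ Y, (d b ∈ Y1 ↔ (d ∈ K ↔ b ∈ Y1)) := by
    intro d hd b hb
    obtain ⟨e, he, rfl⟩ := (hY.2 a haY b).1 hb
    rw [← Equiv.Perm.mul_apply, hF _ (D.mul_mem hd he), hF e he]
    exact hidx d hd e he
  have hperm : ∀ d ∈ D, (Pres d Y1 ∧ Pres d Y2) ∨ Swp d Y1 Y2 := by
    intro d hd
    have hdY : Pres d Y := hY.pres hd
    by_cases hdK : d ∈ K
    · left
      have h1 : Pres d Y1 := by
        intro b
        by_cases hb : b ∈ Y
        · rw [hG d hd b hb]
          simp [hdK]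
        · constructor
          · intro h
            exact absurd ((hdY b).1 (hY1sub _ h)) hb
          · intro h
            exact absurd (hY1sub _ h) hb
      refine ⟨h1, fun b => ?_⟩
      rw [hY2, hY2, hdY b, h1 b]
    · right
      have h1 : ∀ b, d b ∈ Y1 ↔ b ∈ Y2 := by
        intro b
        by_cases hb : b ∈ Y
        · rw [hG d hd b hb, hY2]
          simp [hdK, hb]
        · constructor
          · intro h
            exact absurd ((hdY b).1 (hY1sub _ h)) hb
          · intro h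
            exact absurd ((hY2 b).1 h).1 hb
      intro b
      refine ⟨?_, h1 b⟩
      rw [hY2, hdY b, h1 b, hY2]
      constructor
      · rintro ⟨hb, h⟩
        by_contra hcon
        exact h ⟨hb, hcon⟩
      · intro h
        exact ⟨hY1sub _ h, fun h' => h'.2 h⟩
  have hcard : Y1.card = Y2.card := by
    have hsw : Swp t Y1 Y2 := by
      rcases hperm t htD with h | h
      · exfalso
        have h1 : a ∈ Y1 := by
          have := (hF 1 D.one_mem).2 K.one_mem
          simpa using this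
        have h2 : t a ∈ Y1 := (h.1 a).2 h1
        exact htK ((hF t htD).1 h2)
      · exact h
    have : gim t Y1 = Y2 := by
      ext b
      rw [mem_gim, ← (hsw (t⁻¹ b)).1]
      simp
    rw [← this, card_gim]
  exact ⟨Y1, Y2, hun, hdisj, hcard, hperm⟩

end Cfsg.Agent.Lib.Helper10.USyl
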