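import Mathlib

/-!
# 2-elements of `S_n` in a unique Sylow 2-subgroup (S4349): definitions and basic lemmas
(paper proof by helper26)
-/

set_option autoImplicit false

namespace Cfsg.Agent.Lib.Helper10.USyl

variable {α : Type*} [Fintype α] [DecidableEq α]

/-- `d` preserves the set `Y` -/
def Pres (d : Equiv.Perm α) (Y : Finset α) : Prop := ∀ a, d a ∈ Y ↔ a ∈ Y

/-- `d` swaps the sets `Y1` and `Y2` -/
def Swp (d : Equiv.Perm α) (Y1 Y2 : Finset α) : Prop :=
  ∀ a, (d a ∈ Y2 ↔ a ∈ Y1) ∧ (d a ∈ Y1 ↔ a ∈ Y2)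

/-- `Y` is an orbit of the subgroup `D` -/
def IsOrb (D : Subgroup (Equiv.Perm α)) (Y : Finset α) : Prop :=
  Y.Nonempty ∧ ∀ a ∈ Y, ∀ b, b ∈ Y ↔ ∃ d ∈ D, d a = b

/-- `a` and `b` have the same period under `x` -/
def SamePer (x : Equiv.Perm α) (a b : α) : Prop := ∀ i : ℕ, (x ^ i) a = a ↔ (x ^ i) b = b

/-- `x` is transitive on `Y` (all the points of `Y` are in one cycle) -/
def Trans (x : Equiv.Perm α) (Y : Finset α) : Prop := ∀ a ∈ Y, ∀ b ∈ Y, x.SameCycle a b

/-- `x` is good on `Y`: moved points of `Y` of the same period are in the same cycle, and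
at most two points of `Y` are fixed -/
structure GoodOn (x : Equiv.Perm α) (Y : Finset α) : Prop where
  same : ∀ a ∈ Y, ∀ b ∈ Y, x a ≠ a → SamePer x a b → x.SameCycle a b
  fix : (Y.filter (fun a => x a = a)).card ≤ 2

/-- `(Y1, Y2)` is a partition of `Y` into two halves permuted by `D` -/
structure Bip (D : Subgroup (Equiv.Perm α)) (Y Y1 Y2 : Finset α) : Prop where
  union : Y1 ∪ Y2 = Y
  disj : Disjoint Y1 Y2
  card : Y1.card = Y2.card
  perm : ∀ d ∈ D, (Pres d Y1 ∧ Pres d Y2) ∨ Swp d Y1 Y2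

/-- the image `g Y` -/
def gim (g : Equiv.Perm α) (Y : Finset α) : Finset α := Y.map g.toEmbedding

omit [Fintype α] [DecidableEq α] in
theorem mem_gim {g : Equiv.Perm α} {Y : Finset α} {b : α} : b ∈ gim g Y ↔ g⁻¹ b ∈ Y := by
  unfold gim
  rw [Finset.mem_map_equiv]
  rfl

omit [Fintype α] [DecidableEq α] in
theorem apply_mem_gim {g : Equiv.Perm α} {Y : Finset α} {a : α} : g a ∈ gim g Y ↔ a ∈ Y := by
  rw [mem_gim]; simp

omit [Fintype α] [DecidableEq α] in
theorem card_gim (g : Equiv.Perm α) (Y : Finset α) : (gim g Y).card = Y.card :=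
  Finset.card_map _

omit [Fintype α] [DecidableEq α] in
theorem Pres.one (Y : Finset α) : Pres 1 Y := fun _ => Iff.rfl

omit [Fintype α] [DecidableEq α] in
theorem Pres.mul {d d' : Equiv.Perm α} {Y : Finset α} (h : Pres d Y) (h' : Pres d' Y) :
    Pres (d * d') Y := fun a => by
  rw [Equiv.Perm.mul_apply, h, h']

omit [Fintype α] [DecidableEq α] in
theorem Pres.inv {d : Equiv.Perm α} {Y : Finset α} (h : Pres d Y) : Pres d⁻¹ Y := fun a => by
  rw [← h (d⁻¹ a)]; simp

/-- the stabiliser of the set `Y` in `D` -/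
def stab (D : Subgroup (Equiv.Perm α)) (Y : Finset α) : Subgroup (Equiv.Perm α) where
  carrier := {d | d ∈ D ∧ Pres d Y}
  mul_mem' := fun h h' => ⟨D.mul_mem h.1 h'.1, h.2.mul h'.2⟩
  one_mem' := ⟨D.one_mem, Pres.one Y⟩
  inv_mem' := fun h => ⟨D.inv_mem h.1, h.2.inv⟩

omit [Fintype α] [DecidableEq α] in
theorem mem_stab {D : Subgroup (Equiv.Perm α)} {Y : Finset α} {d : Equiv.Perm α} :
    d ∈ stab D Y ↔ d ∈ D ∧ Pres d Y := Iff.rfl

omit [Fintype α] [DecidableEq α] in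
theorem stab_le (D : Subgroup (Equiv.Perm α)) (Y : Finset α) : stab D Y ≤ D := fun _ h => h.1

end Cfsg.Agent.Lib.Helper10.USyl
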