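import Cfsg.Agent.Lib.Helper10.USyl.Defs

/-! USyl farm, piece E1: `⟨x, (a b)⟩` is a 2-group if `a`, `b` lie in different cycles of the same
length of the 2-element `x`. -/

set_option autoImplicit false

namespace Cfsg.Agent.Lib.Helper10.USyl

variable {α : Type*} [Fintype α] [DecidableEq α]

namespace E1

/-- in a finite group, one inclusion suffices for the normaliser -/
theorem mem_normalizer_of_forall {G : Type*} [Group G] (V : Subgroup G) [Finite V] (g : G)
    (h : ∀ x ∈ V, g * x * g⁻¹ ∈ V) : g ∈ Subgroup.normalizer (V : Set G) := by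
  rw [Subgroup.mem_normalizer_iff]
  intro x
  refine ⟨h x, fun hx => ?_⟩
  let f : V → V := fun v => ⟨g * v.1 * g⁻¹, h v.1 v.2⟩
  have hinj : Function.Injective f := by
    intro u v huv
    have : g * u.1 * g⁻¹ = g * v.1 * g⁻¹ := congrArg Subtype.val huv
    apply Subtype.ext
    simpa using this
  obtain ⟨v, hv⟩ := (Finite.injective_iff_surjective.mp hinj) ⟨_, hx⟩
  have : g * v.1 * g⁻¹ = g * x * g⁻¹ := congrArg Subtype.val hv
  have e : v.1 = x := by simpa using this
  rw [← e]
  exact v.2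

/-- the transposition commutes with its conjugates under the powers of `x` -/
theorem comm_conj (x : Equiv.Perm α) {a b : α} (hab : ¬ x.SameCycle a b) (hper : SamePer x a b)
    (d : ℕ) : Equiv.swap a b * (x ^ d * Equiv.swap a b * (x ^ d)⁻¹) =
      (x ^ d * Equiv.swap a b * (x ^ d)⁻¹) * Equiv.swap a b := by
  rw [← Equiv.swap_apply_apply]
  by_cases h : (x ^ d) a = a
  · rw [h, (hper d).mp h]
  · have hb : (x ^ d) b ≠ b := fun hb => h ((hper d).mpr hb)
    have h1 : (x ^ d) a ≠ b := fun h1 => hab ⟨d, by rw [zpow_natCast]; exact h1⟩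
    have h2 : (x ^ d) b ≠ a := fun h2 =>
      hab (Equiv.Perm.SameCycle.symm ⟨d, by rw [zpow_natCast]; exact h2⟩)
    have hne : a ≠ b := fun h0 => hab (h0 ▸ Equiv.Perm.SameCycle.refl x a)
    have hne' : (x ^ d) a ≠ (x ^ d) b := fun h0 => hne ((x ^ d).injective h0)
    have hd : Equiv.Perm.Disjoint (Equiv.swap a b) (Equiv.swap ((x ^ d) a) ((x ^ d) b)) := by
      apply Equiv.Perm.disjoint_swap_swap
      simp only [List.nodup_cons, List.mem_cons, List.not_mem_nil, or_false, not_or,
        List.nodup_nil, and_true, not_false_eq_true]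
      exact ⟨⟨hne, fun e => h e.symm, fun e => h2 e.symm⟩, ⟨fun e => h1 e.symm, fun e => hb e.symm⟩,
        hne'⟩
    exact hd.commute.eq

/-- the conjugates of the transposition -/
def yy (x : Equiv.Perm α) (a b : α) (i : ℕ) : Equiv.Perm α :=
  x ^ i * Equiv.swap a b * (x ^ i)⁻¹

theorem yy_comm_le (x : Equiv.Perm α) {a b : α} (hab : ¬ x.SameCycle a b) (hper : SamePer x a b)
    (i d : ℕ) : yy x a b i * yy x a b (i + d) = yy x a b (i + d) * yy x a b i := by
  have h := comm_conj x hab hper d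
  unfold yy
  rw [pow_add]
  calc x ^ i * Equiv.swap a b * (x ^ i)⁻¹ * (x ^ i * x ^ d * Equiv.swap a b * (x ^ i * x ^ d)⁻¹)
      = x ^ i * (Equiv.swap a b * (x ^ d * Equiv.swap a b * (x ^ d)⁻¹)) * (x ^ i)⁻¹ := by group
    _ = x ^ i * ((x ^ d * Equiv.swap a b * (x ^ d)⁻¹) * Equiv.swap a b) * (x ^ i)⁻¹ := by rw [h]
    _ = _ := by group

theorem yy_comm (x : Equiv.Perm α) {a b : α} (hab : ¬ x.SameCycle a b) (hper : SamePer x a b)
    (i j : ℕ) : yy x a b i * yy x a b j = yy x a b j * yy x a b i := by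
  rcases le_total i j with h | h
  · obtain ⟨d, rfl⟩ := Nat.exists_eq_add_of_le h
    exact yy_comm_le x hab hper i d
  · obtain ⟨d, rfl⟩ := Nat.exists_eq_add_of_le h
    exact (yy_comm_le x hab hper j d).symm

theorem yy_sq (x : Equiv.Perm α) (a b : α) (i : ℕ) : yy x a b i * yy x a b i = 1 := by
  unfold yy
  calc x ^ i * Equiv.swap a b * (x ^ i)⁻¹ * (x ^ i * Equiv.swap a b * (x ^ i)⁻¹)
      = x ^ i * (Equiv.swap a b * Equiv.swap a b) * (x ^ i)⁻¹ := by group
    _ = 1 := by rw [Equiv.swap_mul_self]; group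

/-- the subgroup generated by the conjugates -/
def KK (x : Equiv.Perm α) (a b : α) : Subgroup (Equiv.Perm α) :=
  Subgroup.closure (Set.range (yy x a b))

theorem KK_comm (x : Equiv.Perm α) {a b : α} (hab : ¬ x.SameCycle a b) (hper : SamePer x a b) :
    ∀ k ∈ KK x a b, ∀ l ∈ KK x a b, k * l = l * k := by
  have h1 : KK x a b ≤ Subgroup.centralizer (Set.range (yy x a b)) := by
    unfold KK
    rw [Subgroup.closure_le]
    rintro _ ⟨i, rfl⟩
    rw [SetLike.mem_coe, Subgroup.mem_centralizer_iff]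
    rintro _ ⟨j, rfl⟩
    exact yy_comm x hab hper j i
  have h2 : KK x a b ≤ Subgroup.centralizer (KK x a b : Set (Equiv.Perm α)) := by
    conv_lhs => unfold KK
    rw [Subgroup.closure_le]
    rintro _ ⟨i, rfl⟩
    rw [SetLike.mem_coe, Subgroup.mem_centralizer_iff]
    intro k hk
    have := Subgroup.mem_centralizer_iff.mp (h1 hk) (yy x a b i) ⟨i, rfl⟩
    exact this.symm
  intro k hk l hl
  exact (Subgroup.mem_centralizer_iff.mp (h2 hl) k hk)

theorem KK_sq (x : Equiv.Perm α) {a b : α} (hab : ¬ x.SameCycle a b) (hper : SamePer x a b) :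
    ∀ k ∈ KK x a b, k * k = 1 := by
  intro k hk
  have hc := KK_comm x hab hper
  induction hk using Subgroup.closure_induction with
  | mem y hy =>
    obtain ⟨i, rfl⟩ := hy
    exact yy_sq x a b i
  | one => rw [one_mul]
  | mul k l hk hl ihk ihl =>
    calc k * l * (k * l) = k * (l * k) * l := by group
      _ = k * (k * l) * l := by rw [hc l hl k hk]
      _ = (k * k) * (l * l) := by group
      _ = 1 := by rw [ihk, ihl, one_mul]
  | inv k hk ihk =>
    rw [← mul_inv_rev, ihk, inv_one]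

theorem KK_conj (x : Equiv.Perm α) (a b : α) : ∀ k ∈ KK x a b, x * k * x⁻¹ ∈ KK x a b := by
  intro k hk
  induction hk using Subgroup.closure_induction with
  | mem y hy =>
    obtain ⟨i, rfl⟩ := hy
    apply Subgroup.subset_closure
    refine ⟨i + 1, ?_⟩
    unfold yy
    rw [pow_succ']
    group
  | one => rw [mul_one, mul_inv_cancel]; exact Subgroup.one_mem _
  | mul k l hk hl ihk ihl =>
    have : x * (k * l) * x⁻¹ = (x * k * x⁻¹) * (x * l * x⁻¹) := by group
    rw [this]
    exact Subgroup.mul_mem _ ihk ihl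
  | inv k hk ihk =>
    have : x * k⁻¹ * x⁻¹ = (x * k * x⁻¹)⁻¹ := by group
    rw [this]
    exact Subgroup.inv_mem _ ihk

end E1

theorem e1 (x : Equiv.Perm α) (hx : IsPGroup 2 (Subgroup.zpowers x)) {a b : α}
    (hab : ¬ x.SameCycle a b) (hper : SamePer x a b) :
    IsPGroup 2 (Subgroup.closure {x, Equiv.swap a b}) := by
  have hK : IsPGroup 2 (E1.KK x a b) := by
    intro k
    refine ⟨1, ?_⟩
    apply Subtype.ext
    show k.1 ^ 2 ^ 1 = 1
    rw [pow_one, pow_two]
    exact E1.KK_sq x hab hper k.1 k.2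
  have hN : Subgroup.zpowers x ≤ Subgroup.normalizer (E1.KK x a b : Set (Equiv.Perm α)) := by
    rw [Subgroup.zpowers_le]
    exact E1.mem_normalizer_of_forall _ x (E1.KK_conj x a b)
  have hsup := hx.to_sup_of_normal_right' hK hN
  apply hsup.to_le
  rw [Subgroup.closure_le]
  rintro y (rfl | rfl)
  · exact (le_sup_left : Subgroup.zpowers y ≤ _) (Subgroup.mem_zpowers y)
  · apply (le_sup_right : E1.KK x a b ≤ _)
    apply Subgroup.subset_closure
    refine ⟨0, ?_⟩
    unfold E1.yy
    simp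

end Cfsg.Agent.Lib.Helper10.USyl
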