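import Cfsg.Agent.Lib.Helper10.USyl.E1

/-! USyl farm, piece E3. -/

set_option autoImplicit false

namespace Cfsg.Agent.Lib.Helper10.USyl

variable {α : Type*} [Fintype α] [DecidableEq α]

namespace E3

theorem swap_mem (x : Equiv.Perm α) (hx : IsPGroup 2 (Subgroup.zpowers x))
    (P : Sylow 2 (Equiv.Perm α)) (hP : ∀ P' : Sylow 2 (Equiv.Perm α), x ∈ P' → P' = P) {a b : α}
    (h1 : ¬ x.SameCycle a b) (h1' : SamePer x a b) : Equiv.swap a b ∈ P := by
  obtain ⟨P', hP'⟩ := (e1 x hx h1 h1').exists_le_sylow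
  have hx' : x ∈ P' := hP' (Subgroup.subset_closure (by simp))
  rw [← hP P' hx']
  exact hP' (Subgroup.subset_closure (by simp))

end E3

theorem e3 (x : Equiv.Perm α) (hx : IsPGroup 2 (Subgroup.zpowers x)) (P : Sylow 2 (Equiv.Perm α))
    (hP : ∀ P' : Sylow 2 (Equiv.Perm α), x ∈ P' → P' = P) {a b b' : α} (hbb' : b ≠ b')
    (h1 : ¬ x.SameCycle a b) (h1' : SamePer x a b) (h2 : ¬ x.SameCycle a b') (h2' : SamePer x a b') :
    False := by
  have m1 := E3.swap_mem x hx P hP h1 h1'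
  have m2 := E3.swap_mem x hx P hP h2 h2'
  have hab : a ≠ b := fun h0 => h1 (h0 ▸ Equiv.Perm.SameCycle.refl x a)
  have hab' : a ≠ b' := fun h0 => h2 (h0 ▸ Equiv.Perm.SameCycle.refl x a)
  have h3 := Equiv.Perm.isThreeCycle_swap_mul_swap_same hab hab' hbb'
  have ho := h3.orderOf
  have hm : Equiv.swap a b * Equiv.swap a b' ∈ (P : Subgroup (Equiv.Perm α)) :=
    Subgroup.mul_mem _ m1 m2
  obtain ⟨k, hk⟩ := P.isPGroup' ⟨_, hm⟩
  have hk' : (Equiv.swap a b * Equiv.swap a b') ^ 2 ^ k = 1 := congrArg Subtype.val hk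
  have hd := orderOf_dvd_of_pow_eq_one hk'
  rw [ho] at hd
  have := Nat.Prime.dvd_of_dvd_pow Nat.prime_three hd
  omega

end Cfsg.Agent.Lib.Helper10.USyl
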