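import Cfsg.Agent.Lib.Helper10.USyl.E3

/-! USyl farm, piece E4. -/

set_option autoImplicit false

namespace Cfsg.Agent.Lib.Helper10.USyl

variable {α : Type*} [Fintype α] [DecidableEq α]

namespace E4

theorem pow_fix (x : Equiv.Perm α) {a : α} (h : x a = a) (i : ℕ) : (x ^ i) a = a := by
  induction i with
  | zero => rfl
  | succ i ih => rw [pow_succ, Equiv.Perm.mul_apply, h, ih]

theorem samePer_fix (x : Equiv.Perm α) {a b : α} (ha : x a = a) (hb : x b = b) : SamePer x a b :=
  fun i => ⟨fun _ => pow_fix x hb i, fun _ => pow_fix x ha i⟩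

theorem not_sameCycle_fix (x : Equiv.Perm α) {a b : α} (ha : x a = a) (hab : a ≠ b) :
    ¬ x.SameCycle a b := fun h => hab (h.eq_of_left ha)

end E4

theorem good_of_unique (x : Equiv.Perm α) (hx : IsPGroup 2 (Subgroup.zpowers x))
    (h : ∃! P : Sylow 2 (Equiv.Perm α), x ∈ P) : GoodOn x Finset.univ := by
  obtain ⟨P, _, hP⟩ := h
  constructor
  · intro a _ b _ hxa hper
    by_contra hab
    have hxb : x b ≠ b := by
      intro hb
      apply hxa
      have := (hper 1).mpr (by rw [pow_one]; exact hb)
      rwa [pow_one] at this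
    have h2 : ¬ x.SameCycle a (x b) := by
      rw [Equiv.Perm.sameCycle_apply_right]
      exact hab
    have h2' : SamePer x a (x b) := by
      intro i
      rw [hper i]
      have e : (x ^ i) (x b) = x ((x ^ i) b) := by
        rw [← Equiv.Perm.mul_apply, ← Equiv.Perm.mul_apply, ← pow_succ, ← pow_succ']
      rw [e]
      exact ⟨fun h0 => by rw [h0], fun h0 => x.injective h0⟩
    exact e3 x hx P hP (fun e => hxb e.symm) hab hper h2 h2'
  · by_contra hcon
    rw [not_le, Finset.two_lt_card] at hcon
    obtain ⟨a, ha, b, hb, c, hc, hab, hac, hbc⟩ := hcon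
    simp only [Finset.mem_filter, Finset.mem_univ, true_and] at ha hb hc
    exact e3 x hx P hP hbc (E4.not_sameCycle_fix x ha hab) (E4.samePer_fix x ha hb)
      (E4.not_sameCycle_fix x ha hac) (E4.samePer_fix x ha hc)

end Cfsg.Agent.Lib.Helper10.USyl
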