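import Cfsg.Agent.Lib.Helper10.USyl.N1

/-! USyl farm, piece OC: orbits of 2-groups. -/

set_option autoImplicit false

namespace Cfsg.Agent.Lib.Helper10.USyl

variable {α : Type*} [Fintype α] [DecidableEq α]

theorem IsOrb.card_eq {D : Subgroup (Equiv.Perm α)} (hD : IsPGroup 2 D) {Y : Finset α}
    (hY : IsOrb D Y) : ∃ k : ℕ, Y.card = 2 ^ k := by
  obtain ⟨a, ha⟩ := hY.1
  have hset : (Y : Set α) = MulAction.orbit D a := by
    ext b
    rw [Finset.mem_coe, hY.2 a ha b, MulAction.mem_orbit_iff]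
    constructor
    · rintro ⟨d, hd, hda⟩
      exact ⟨⟨d, hd⟩, hda⟩
    · rintro ⟨d, hda⟩
      exact ⟨d, d.2, hda⟩
  obtain ⟨n, hn⟩ := hD.card_orbit a
  refine ⟨n, ?_⟩
  rw [← hn, ← hset]
  simp

theorem IsOrb.pow_fix {D : Subgroup (Equiv.Perm α)} (hD : IsPGroup 2 D) {Y : Finset α}
    (hY : IsOrb D Y) {k : ℕ} (hk : Y.card = 2 ^ k) {x : Equiv.Perm α} (hx : x ∈ D) :
    ∀ a ∈ Y, (x ^ 2 ^ k) a = a := by
  intro a ha
  obtain ⟨e, he⟩ := hD ⟨x, hx⟩
  have he' : x ^ 2 ^ e = 1 := by
    have := congrArg Subtype.val he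
    simpa using this
  have h1 : Function.minimalPeriod x a ∣ 2 ^ e := by
    rw [← N1.pow_apply_iff, he', Equiv.Perm.one_apply]
  obtain ⟨j, _, hm⟩ := (Nat.dvd_prime_pow Nat.prime_two).1 h1
  have hle : Function.minimalPeriod x a ≤ Y.card := by
    have hsub : (Finset.range (Function.minimalPeriod x a)).image (fun i => (x ^ i) a) ⊆ Y := by
      intro b hb
      obtain ⟨i, _, rfl⟩ := Finset.mem_image.1 hb
      exact (((hY.pres hx).pow i) a).2 ha
    have hcard : ((Finset.range (Function.minimalPeriod x a)).image (fun i => (x ^ i) a)).card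
        = Function.minimalPeriod x a := by
      rw [Finset.card_image_of_injOn, Finset.card_range]
      intro i hi i' hi' hii
      have := Function.iterate_injOn_Iio_minimalPeriod (f := x) (x := a)
        (by simpa using hi) (by simpa using hi')
      apply this
      simp only [Equiv.Perm.iterate_eq_pow]
      exact hii
    rw [← hcard]
    exact Finset.card_le_card hsub
  rw [N1.pow_apply_iff, hm]
  rw [hm, hk] at hle
  exact pow_dvd_pow 2 ((Nat.pow_le_pow_iff_right (by norm_num)).1 hle)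

end Cfsg.Agent.Lib.Helper10.USyl
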