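import Cfsg.Agent.Lib.Helper10.USyl.P0

set_option autoImplicit false

namespace Cfsg.Agent.Lib.Helper10.USyl

variable {α : Type*} [Fintype α] [DecidableEq α]

namespace TA

theorem sameCycle_sq {x : Equiv.Perm α} {Z1 Z2 : Finset α} (hd : Disjoint Z1 Z2)
    (hs : Swp x Z1 Z2) {u v : α} (hu : u ∈ Z1) (hv : v ∈ Z1) (h : x.SameCycle u v) :
    (x ^ 2).SameCycle u v := by
  obtain ⟨i, hi⟩ := h
  have hz : ∀ m : ℤ, (x ^ 2) ^ m = x ^ (2 * m) := by
    intro m
    rw [← zpow_natCast x 2, ← zpow_mul]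
    norm_num
  obtain ⟨m, rfl | rfl⟩ := Int.even_or_odd' i
  · exact ⟨m, by rw [hz]; exact hi⟩
  · exfalso
    have h2 : Pres (x ^ 2) Z2 := by
      rw [sq]
      exact (hs.mul hs).2
    have hxu : x u ∈ Z2 := ((hs u).1).2 hu
    have e : (x ^ (2 * m + 1)) u = ((x ^ 2) ^ m) (x u) := by
      rw [hz, zpow_add, zpow_one, Equiv.Perm.mul_apply]
    rw [e] at hi
    have : v ∈ Z2 := by
      rw [← hi]
      exact ((h2.zpow m) (x u)).2 hxu
    exact Finset.disjoint_left.1 hd hv this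

omit [Fintype α] [DecidableEq α] in
theorem swp_symm {x : Equiv.Perm α} {Z1 Z2 : Finset α} (hs : Swp x Z1 Z2) : Swp x Z2 Z1 :=
  fun a => ⟨(hs a).2, (hs a).1⟩

end TA

theorem bip_of_trans {D : Subgroup (Equiv.Perm α)} {Y Y1 Y2 : Finset α} (h : Bip D Y Y1 Y2)
    (hne : Y.Nonempty) {x : Equiv.Perm α} (hx : x ∈ D) (htr : Trans x Y) :
    Swp x Y1 Y2 ∧ Trans (x ^ 2) Y1 ∧ Trans (x ^ 2) Y2 := by
  have hc : 0 < Y.card := Finset.card_pos.2 hne
  have hcu : Y.card = Y1.card + Y2.card := by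
    rw [← h.union, Finset.card_union_of_disjoint h.disj]
  have hcc := h.card
  obtain ⟨u, hu⟩ : Y1.Nonempty := Finset.card_pos.1 (by omega)
  obtain ⟨v, hv⟩ : Y2.Nonempty := Finset.card_pos.1 (by omega)
  have h1Y : Y1 ⊆ Y := by
    rw [← h.union]
    exact Finset.subset_union_left
  have h2Y : Y2 ⊆ Y := by
    rw [← h.union]
    exact Finset.subset_union_right
  have hs : Swp x Y1 Y2 := by
    rcases h.perm x hx with hp | hs
    · exfalso
      have := hp.1.sameCycle hu (htr u (h1Y hu) v (h2Y hv))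
      exact Finset.disjoint_left.1 h.disj this hv
    · exact hs
  refine ⟨hs, ?_, ?_⟩
  · intro a ha b hb
    exact TA.sameCycle_sq h.disj hs ha hb (htr a (h1Y ha) b (h1Y hb))
  · intro a ha b hb
    exact TA.sameCycle_sq h.disj.symm (TA.swp_symm hs) ha hb (htr a (h2Y ha) b (h2Y hb))

end Cfsg.Agent.Lib.Helper10.USyl
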