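import Cfsg.Agent.Lib.Helper10.USyl.P0

set_option autoImplicit false

namespace Cfsg.Agent.Lib.Helper10.USyl

variable {α : Type*} [Fintype α] [DecidableEq α]

theorem bip_of_fixed {D : Subgroup (Equiv.Perm α)} {Y Y1 Y2 : Finset α} (h : Bip D Y Y1 Y2)
    {x : Equiv.Perm α} (hx : x ∈ D) {c : α} (hc : c ∈ Y) (hxc : x c = c) {z : α} (hz : z ∈ Y)
    (hcard : 2 * (Y.filter (fun b => x.SameCycle z b)).card = Y.card) :
    (Pres x Y1 ∧ Pres x Y2) ∧
      (Y1 = Y.filter (fun b => x.SameCycle z b) ∨ Y2 = Y.filter (fun b => x.SameCycle z b)) := by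
  have hcu : Y.card = Y1.card + Y2.card := by
    rw [← h.union, Finset.card_union_of_disjoint h.disj]
  have hcc := h.card
  have hp : Pres x Y1 ∧ Pres x Y2 := by
    rcases h.perm x hx with hp | hs
    · exact hp
    · exfalso
      rw [← h.union, Finset.mem_union] at hc
      rcases hc with hc | hc
      · have := ((hs c).1).2 hc
        rw [hxc] at this
        exact Finset.disjoint_left.1 h.disj hc this
      · have := ((hs c).2).2 hc
        rw [hxc] at this
        exact Finset.disjoint_left.1 h.disj this hc
  refine ⟨hp, ?_⟩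
  rw [← h.union, Finset.mem_union] at hz
  rcases hz with hz | hz
  · left
    symm
    apply Finset.eq_of_subset_of_card_le
    · intro b hb
      exact hp.1.sameCycle hz (Finset.mem_filter.1 hb).2
    · omega
  · right
    symm
    apply Finset.eq_of_subset_of_card_le
    · intro b hb
      exact hp.2.sameCycle hz (Finset.mem_filter.1 hb).2
    · omega

end Cfsg.Agent.Lib.Helper10.USyl
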