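import Cfsg.Agent.Lib.Helper10.USyl.N2
import Cfsg.Agent.Lib.Helper10.USyl.OC
import Cfsg.Agent.Lib.Helper10.USyl.TA
import Cfsg.Agent.Lib.Helper10.USyl.TB

/-! USyl farm, piece GH. -/

set_option autoImplicit false

namespace Cfsg.Agent.Lib.Helper10.USyl

variable {α : Type*} [Fintype α] [DecidableEq α]

theorem exists_good_half (D : Subgroup (Equiv.Perm α)) (hD : IsPGroup 2 D) {x : Equiv.Perm α}
    (hx : x ∈ D) {Y : Finset α} (hY : IsOrb D Y) (hgood : GoodOn x Y) {Y1 Y2 : Finset α}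
    (h : Bip D Y Y1 Y2) : ∃ x1 ∈ stab D Y1, GoodOn x1 Y1 ∧ GoodOn x1 Y2 := by
  have hx2 : ∃ e : ℕ, x ^ 2 ^ e = 1 := by
    obtain ⟨e, he⟩ := hD ⟨x, hx⟩
    refine ⟨e, ?_⟩
    have := congrArg Subtype.val he
    simpa using this
  have hcard : Y.card = Y1.card + Y2.card := by
    rw [← h.union, Finset.card_union_of_disjoint h.disj]
  have hpos : 0 < Y.card := Finset.card_pos.2 hY.1
  have hc := h.card
  obtain ⟨k, hk⟩ := hY.card_eq hD
  have hk0 : k ≠ 0 := by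
    rintro rfl
    rw [pow_zero] at hk
    omega
  obtain ⟨k', rfl⟩ := Nat.exists_eq_succ_of_ne_zero hk0
  have hs1 : Y1 ⊆ Y := by rw [← h.union]; exact Finset.subset_union_left
  have hs2 : Y2 ⊆ Y := by rw [← h.union]; exact Finset.subset_union_right
  rcases n2 x hx2 Y (hY.pres hx) hgood k' hk with htr | ⟨⟨c, hc, hxc⟩, z, hz, hzc⟩
  · obtain ⟨hsw, ht1, ht2⟩ := bip_of_trans h hY.1 hx htr
    refine ⟨x ^ 2, ⟨D.pow_mem hx 2, ?_⟩, goodOn_of_trans ht1, goodOn_of_trans ht2⟩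
    rw [pow_two]
    exact (hsw.mul hsw).1
  · obtain ⟨⟨hp1, _⟩, _⟩ := bip_of_fixed h hx hc hxc hz hzc
    exact ⟨x, ⟨hx, hp1⟩, hgood.mono hs1, hgood.mono hs2⟩

end Cfsg.Agent.Lib.Helper10.USyl
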