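import Cfsg.Agent.Lib.Helper10.USyl.P0

/-! USyl farm, piece OD. -/

set_option autoImplicit false

namespace Cfsg.Agent.Lib.Helper10.USyl

variable {α : Type*} [Fintype α] [DecidableEq α]

omit [Fintype α] [DecidableEq α] in
theorem pres_of_gim_cases {g : Equiv.Perm α} {r : ℕ} (hr : Odd r) (hgr : g ^ r = 1)
    {Y1 Y2 : Finset α} (h : (gim g Y1 = Y1 ∧ gim g Y2 = Y2) ∨ (gim g Y1 = Y2 ∧ gim g Y2 = Y1)) :
    Pres g Y1 ∧ Pres g Y2 := by
  rcases h with ⟨h1, h2⟩ | ⟨h1, h2⟩
  · constructor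
    · intro a
      conv_lhs => rw [← h1]
      exact apply_mem_gim
    · intro a
      conv_lhs => rw [← h2]
      exact apply_mem_gim
  · have hsw : Swp g Y1 Y2 := by
      intro a
      constructor
      · conv_lhs => rw [← h1]
        exact apply_mem_gim
      · conv_lhs => rw [← h2]
        exact apply_mem_gim
    have h3 := hsw.mul hsw
    rw [← pow_two] at h3
    exact ⟨pres_of_sq hr hgr h3.1, pres_of_sq hr hgr h3.2⟩

end Cfsg.Agent.Lib.Helper10.USyl
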