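import Cfsg.Agent.Lib.Helper10.USyl.P0

/-! USyl farm, piece ST: the stabiliser of a half. -/

set_option autoImplicit false

namespace Cfsg.Agent.Lib.Helper10.USyl

variable {α : Type*} [Fintype α] [DecidableEq α]

omit [Fintype α] [DecidableEq α] in
theorem normalizer_stab {D : Subgroup (Equiv.Perm α)} {g : Equiv.Perm α}
    (hg : g ∈ Subgroup.normalizer (D : Set (Equiv.Perm α)))
    {Y : Finset α} (hgY : Pres g Y) : g ∈ Subgroup.normalizer (stab D Y : Set (Equiv.Perm α)) := by
  rw [Subgroup.mem_normalizer_iff]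
  intro d
  rw [mem_stab, mem_stab, ← Subgroup.mem_normalizer_iff.1 hg d]
  constructor
  · rintro ⟨h1, h2⟩
    exact ⟨h1, (hgY.mul h2).mul hgY.inv⟩
  · rintro ⟨h1, h2⟩
    refine ⟨h1, ?_⟩
    have : d = g⁻¹ * (g * d * g⁻¹) * g := by group
    rw [this]
    exact (hgY.inv.mul h2).mul hgY

omit [Fintype α] in
theorem Bip.isOrb {D : Subgroup (Equiv.Perm α)} {Y Y1 Y2 : Finset α} (h : Bip D Y Y1 Y2)
    (hY : IsOrb D Y) : IsOrb (stab D Y1) Y1 ∧ IsOrb (stab D Y1) Y2 := by
  have hcard : Y.card = Y1.card + Y2.card := by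
    rw [← h.union, Finset.card_union_of_disjoint h.disj]
  have hpos : 0 < Y.card := Finset.card_pos.2 hY.1
  have hc := h.card
  have hne1 : Y1.Nonempty := Finset.card_pos.1 (by omega)
  have hne2 : Y2.Nonempty := Finset.card_pos.1 (by omega)
  have hs1 : ∀ a, a ∈ Y1 → a ∈ Y := fun a ha => by
    rw [← h.union]; exact Finset.mem_union_left _ ha
  have hs2 : ∀ a, a ∈ Y2 → a ∈ Y := fun a ha => by
    rw [← h.union]; exact Finset.mem_union_right _ ha
  have hdis : ∀ a, a ∈ Y1 → a ∈ Y2 → False := fun a h1 h2 =>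
    Finset.disjoint_left.1 h.disj h1 h2
  constructor
  · refine ⟨hne1, fun a ha b => ?_⟩
    constructor
    · intro hb
      obtain ⟨d, hd, hda⟩ := (hY.2 a (hs1 a ha) b).1 (hs1 b hb)
      rcases h.perm d hd with hp | hp
      · exact ⟨d, ⟨hd, hp.1⟩, hda⟩
      · exfalso
        have : d a ∈ Y2 := (hp a).1.2 ha
        rw [hda] at this
        exact hdis b hb this
    · rintro ⟨d, hd, rfl⟩
      exact (hd.2 a).2 ha
  · refine ⟨hne2, fun a ha b => ?_⟩
    constructor
    · intro hb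
      obtain ⟨d, hd, hda⟩ := (hY.2 a (hs2 a ha) b).1 (hs2 b hb)
      rcases h.perm d hd with hp | hp
      · exact ⟨d, ⟨hd, hp.1⟩, hda⟩
      · exfalso
        have : d a ∈ Y1 := (hp a).2.2 ha
        rw [hda] at this
        exact hdis b this hb
    · rintro ⟨d, hd, rfl⟩
      have h1 : d a ∈ Y := ((hY.pres hd.1) a).2 (hs2 a ha)
      rw [← h.union, Finset.mem_union] at h1
      rcases h1 with h1 | h1
      · exact absurd ((hd.2 a).1 h1) (fun h' => hdis a h' ha)
      · exact h1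

end Cfsg.Agent.Lib.Helper10.USyl
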