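import Cfsg.Agent.Lib.Helper10.USyl.Defs

/-! USyl farm, piece T1. -/

set_option autoImplicit false

namespace Cfsg.Agent.Lib.Helper10.USyl

variable {α : Type*} [Fintype α] [DecidableEq α]

theorem fix_iff (x : Equiv.Perm α) :
    (Finset.univ.filter (fun a => x a = a)).card ≤ 2 ↔ Fintype.card α ≤ x.support.card + 2 := by
  have h1 : Finset.univ.filter (fun a => x a = a) = x.supportᶜ := by
    ext a
    simp [Equiv.Perm.mem_support]
  rw [h1, Finset.card_compl]
  have := Finset.card_le_univ x.support
  omega

end Cfsg.Agent.Lib.Helper10.USyl
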