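import Cfsg.Agent.Lib.Helper10.USyl.Defs

/-! USyl farm, piece T2: translation to `cycleType.Nodup`. -/

set_option autoImplicit false
set_option linter.unusedSectionVars false

namespace Cfsg.Agent.Lib.Helper10.USyl

variable {α : Type*} [Fintype α] [DecidableEq α]

namespace T2

theorem pow_apply_iff {x : Equiv.Perm α} {a : α} (ha : x a ≠ a) (i : ℕ) :
    (x ^ i) a = a ↔ (x.cycleOf a).support.card ∣ i := by
  have hc := x.isCycle_cycleOf ha
  have hca : x.cycleOf a a ≠ a := by rwa [Equiv.Perm.cycleOf_apply_self]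
  rw [← hc.orderOf, orderOf_dvd_iff_pow_eq_one, hc.pow_eq_one_iff' hca,
    Equiv.Perm.cycleOf_pow_apply_self]

end T2

theorem same_iff (x : Equiv.Perm α) :
    (∀ a b : α, x a ≠ a → SamePer x a b → x.SameCycle a b) ↔ x.cycleType.Nodup := by
  rw [Equiv.Perm.cycleType_def, Multiset.nodup_map_iff_inj_on x.cycleFactorsFinset.nodup]
  constructor
  · intro h c hc c' hc' hcc
    have hc1 : c ∈ x.cycleFactorsFinset := hc
    have hc1' : c' ∈ x.cycleFactorsFinset := hc'
    obtain ⟨a, ha⟩ := (Equiv.Perm.mem_cycleFactorsFinset_iff.1 hc1).1.nonempty_support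
    obtain ⟨b, hb⟩ := (Equiv.Perm.mem_cycleFactorsFinset_iff.1 hc1').1.nonempty_support
    have e1 := Equiv.Perm.cycle_is_cycleOf ha hc1
    have e2 := Equiv.Perm.cycle_is_cycleOf hb hc1'
    have hxa : x a ≠ a := Equiv.Perm.mem_support.1 (Equiv.Perm.mem_cycleFactorsFinset_support_le hc1 ha)
    have hxb : x b ≠ b := Equiv.Perm.mem_support.1 (Equiv.Perm.mem_cycleFactorsFinset_support_le hc1' hb)
    have hcc' : (x.cycleOf a).support.card = (x.cycleOf b).support.card := by
      rw [← e1, ← e2]; exact hcc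
    have hsp : SamePer x a b := by
      intro i
      rw [T2.pow_apply_iff hxa, T2.pow_apply_iff hxb, hcc']
    rw [e1, e2]
    exact (h a b hxa hsp).cycleOf_eq
  · intro h a b hxa hsp
    have hxb : x b ≠ b := by
      intro hb
      apply hxa
      have := (hsp 1).2 (by simpa using hb)
      simpa using this
    have m1 : x.cycleOf a ∈ x.cycleFactorsFinset :=
      Equiv.Perm.cycleOf_mem_cycleFactorsFinset_iff.2 (Equiv.Perm.mem_support.2 hxa)
    have m2 : x.cycleOf b ∈ x.cycleFactorsFinset :=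
      Equiv.Perm.cycleOf_mem_cycleFactorsFinset_iff.2 (Equiv.Perm.mem_support.2 hxb)
    have hcard : (x.cycleOf a).support.card = (x.cycleOf b).support.card := by
      apply Nat.dvd_antisymm
      · rw [← T2.pow_apply_iff hxa, hsp, T2.pow_apply_iff hxb]
      · rw [← T2.pow_apply_iff hxb, ← hsp, T2.pow_apply_iff hxa]
    have heq := h _ m1 _ m2 hcard
    have hb : b ∈ (x.cycleOf b).support :=
      (Equiv.Perm.mem_support_cycleOf_iff' hxb).2 (Equiv.Perm.SameCycle.refl _ _)
    rw [← heq] at hb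
    exact (Equiv.Perm.mem_support_cycleOf_iff' hxa).1 hb

end Cfsg.Agent.Lib.Helper10.USyl
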