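import Cfsg.Agent.Lib.Helper10.USyl.Defs

/-! USyl farm, piece U: abstract group theory. -/

set_option autoImplicit false

namespace Cfsg.Agent.Lib.Helper10.USyl

namespace U

/-- the normaliser grows in a `p`-group -/
theorem exists_normalizing {G : Type*} [Group G] [Finite G] {p : ℕ} [Fact p.Prime]
    (P : Sylow p G) (D : Subgroup G) (hle : D ≤ P) (hne : D ≠ P) :
    ∃ u ∈ (P : Subgroup G), u ∈ Subgroup.normalizer (D : Set G) ∧ u ∉ D := by
  have hnil : Group.IsNilpotent (P : Subgroup G) := P.isPGroup'.isNilpotent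
  have hnc : NormalizerCondition (P : Subgroup G) := Group.normalizerCondition_of_isNilpotent
  have hlt : D.subgroupOf P < ⊤ := by
    rw [lt_top_iff_ne_top]
    intro h
    rw [Subgroup.subgroupOf_eq_top] at h
    exact hne (le_antisymm hle h)
  have h1 := hnc _ hlt
  obtain ⟨u, hu1, hu2⟩ := SetLike.exists_of_lt h1
  rw [← Subgroup.subgroupOf_normalizer_eq hle, Subgroup.mem_subgroupOf] at hu1
  rw [Subgroup.mem_subgroupOf] at hu2
  exact ⟨u.1, u.2, hu1, hu2⟩

end U

theorem unique_sylow_of_normalizers {G : Type*} [Group G] [Finite G] {p : ℕ} [Fact p.Prime] (x : G)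
    (hx : IsPGroup p (Subgroup.zpowers x))
    (h : ∀ D : Subgroup G, IsPGroup p D → x ∈ D → IsPGroup p (Subgroup.normalizer (D : Set G))) :
    ∃! P : Sylow p G, x ∈ P := by
  have key : ∀ n : ℕ, ∀ P Q : Sylow p G, x ∈ P → x ∈ Q →
      Nat.card G - Nat.card ((P : Subgroup G) ⊓ (Q : Subgroup G) : Subgroup G) = n → P = Q := by
    intro n
    induction n using Nat.strong_induction_on with
    | _ n ih =>
      intro P Q hP hQ hn
      by_contra hne
      set D : Subgroup G := (P : Subgroup G) ⊓ (Q : Subgroup G) with hD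
      have hDP : D ≠ P := by
        intro h1
        have hle : (P : Subgroup G) ≤ Q := by rw [← h1]; exact inf_le_right
        exact hne (Sylow.ext (P.is_maximal' Q.isPGroup' hle).symm)
      have hDQ : D ≠ Q := by
        intro h1
        have hle : (Q : Subgroup G) ≤ P := by rw [← h1]; exact inf_le_left
        exact hne (Sylow.ext (Q.is_maximal' P.isPGroup' hle))
      obtain ⟨u, huP, huN, huD⟩ := U.exists_normalizing P D inf_le_left hDP
      obtain ⟨v, hvQ, hvN, hvD⟩ := U.exists_normalizing Q D inf_le_right hDQ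
      have hxD : x ∈ D := ⟨hP, hQ⟩
      have hN := h D (P.isPGroup'.to_le inf_le_left) hxD
      obtain ⟨S, hS⟩ := hN.exists_le_sylow
      have hDS : D ≤ S := le_trans Subgroup.le_normalizer hS
      have hxS : x ∈ S := hDS hxD
      have grow : ∀ (R : Sylow p G) (w : G), D ≤ R → w ∈ (R : Subgroup G) → w ∈ (S : Subgroup G) →
          w ∉ D → Nat.card D < Nat.card ((S : Subgroup G) ⊓ (R : Subgroup G) : Subgroup G) := by
        intro R w hDR hwR hwS hwD
        by_contra hcon
        rw [not_lt] at hcon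
        have : D = (S : Subgroup G) ⊓ (R : Subgroup G) :=
          Subgroup.eq_of_le_of_card_ge (le_inf hDS hDR) hcon
        apply hwD
        rw [this]
        exact ⟨hwS, hwR⟩
      have cle : ∀ H : Subgroup G, Nat.card H ≤ Nat.card G := fun H => Subgroup.card_le_card_group H
      have e1 : S = P := by
        have g1 := grow P u inf_le_left huP (hS huN) huD
        have := cle ((S : Subgroup G) ⊓ (P : Subgroup G))
        exact ih _ (by omega) S P hxS hP rfl
      have e2 : S = Q := by
        have g1 := grow Q v inf_le_right hvQ (hS hvN) hvD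
        have := cle ((S : Subgroup G) ⊓ (Q : Subgroup G))
        exact ih _ (by omega) S Q hxS hQ rfl
      exact hne (e1.symm.trans e2)
  obtain ⟨P, hP⟩ := hx.exists_le_sylow
  have hxP : x ∈ P := hP (Subgroup.mem_zpowers x)
  exact ⟨P, hxP, fun Q hQ => key _ Q P hQ hxP rfl⟩

/-- every element of a finite group is (2-part)·(odd part): what is needed for [Z] -/
theorem isPGroup_two_of_odd_trivial {G : Type*} [Group G] [Finite G] (N : Subgroup G)
    (h : ∀ g ∈ N, ∀ r : ℕ, Odd r → g ^ r = 1 → g = 1) : IsPGroup 2 N := by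
  intro g
  obtain ⟨e, r, hr, he⟩ := Nat.exists_eq_two_pow_mul_odd (orderOf_pos g.1).ne'
  refine ⟨e, ?_⟩
  apply Subtype.ext
  show g.1 ^ 2 ^ e = 1
  apply h _ (N.pow_mem g.2 _) r hr
  rw [← pow_mul, ← he, pow_orderOf_eq_one]

end Cfsg.Agent.Lib.Helper10.USyl
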