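import Cfsg.Agent.Lib.Helper10.USyl.N1

/-! USyl farm, piece N2. -/

set_option autoImplicit false
set_option linter.unusedSectionVars false

namespace Cfsg.Agent.Lib.Helper10.USyl

variable {α : Type*} [Fintype α] [DecidableEq α]

namespace N2

theorem card_cycle {x : Equiv.Perm α} {Y : Finset α} (hxY : Pres x Y) {z : α} (hz : z ∈ Y) {N : ℕ}
    (hN : Function.minimalPeriod x z = N) (hN0 : 0 < N) :
    (Y.filter (fun b => x.SameCycle z b)).card = N := by
  have hfix : (x ^ N) z = z := by rw [N1.pow_apply_iff, hN]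
  have heq : Y.filter (fun b => x.SameCycle z b) = (Finset.range N).image (fun i => (x ^ i) z) := by
    ext b
    rw [Finset.mem_filter, Finset.mem_image]
    constructor
    · rintro ⟨-, hb⟩
      obtain ⟨i, -, hi⟩ := hb.exists_pow_eq'
      exact ⟨i % N, Finset.mem_range.2 (Nat.mod_lt _ hN0), by rw [← N1.pow_mod_apply hfix, hi]⟩
    · rintro ⟨i, -, rfl⟩
      exact ⟨((hxY.pow i) z).2 hz, Equiv.Perm.sameCycle_pow_right.2 (Equiv.Perm.SameCycle.refl _ _)⟩
  rw [heq, Finset.card_image_of_injOn, Finset.card_range]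
  intro i hi i' hi' hii
  have h2 := Function.iterate_injOn_Iio_minimalPeriod (f := x) (x := z)
  apply h2
  · rw [hN]; simpa using hi
  · rw [hN]; simpa using hi'
  · simpa [Equiv.Perm.iterate_eq_pow] using hii

end N2

theorem n2 (x : Equiv.Perm α) (hx : ∃ e : ℕ, x ^ 2 ^ e = 1) (Y : Finset α) (hxY : Pres x Y)
    (h : GoodOn x Y) (k : ℕ) (hk : Y.card = 2 ^ (k + 1)) :
    Trans x Y ∨ ((∃ c ∈ Y, x c = c) ∧
      ∃ z ∈ Y, 2 * (Y.filter (fun b => x.SameCycle z b)).card = Y.card) := by
  classical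
  have hex : ∃ a : ℕ, ∀ ω ∈ Y, (x ^ 2 ^ a) ω = ω := by
    obtain ⟨e, he⟩ := hx
    exact ⟨e, fun ω _ => by rw [he]; rfl⟩
  obtain ⟨a, ha, hmin⟩ : ∃ a : ℕ, (∀ ω ∈ Y, (x ^ 2 ^ a) ω = ω) ∧
      ∀ a' < a, ¬ ∀ ω ∈ Y, (x ^ 2 ^ a') ω = ω :=
    ⟨Nat.find hex, Nat.find_spec hex, fun a' h' => Nat.find_min hex h'⟩
  have hYpos : 0 < Y.card := by rw [hk]; positivity
  have h2k : 2 ≤ 2 ^ (k + 1) := by
    calc 2 = 2 ^ 1 := by norm_num
      _ ≤ 2 ^ (k + 1) := Nat.pow_le_pow_right (by norm_num) (by omega)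
  rcases Nat.eq_zero_or_pos a with h0 | hpos
  · -- `x` fixes `Y` pointwise
    subst h0
    have hfixall : ∀ ω ∈ Y, x ω = ω := by
      intro ω hω
      simpa using ha ω hω
    have hYf : Y.filter (fun a => x a = a) = Y := Finset.filter_true_of_mem hfixall
    have hle := h.fix
    rw [hYf] at hle
    obtain ⟨z, hz⟩ := Finset.card_pos.1 hYpos
    right
    refine ⟨⟨z, hz, hfixall z hz⟩, z, hz, ?_⟩
    have : Y.filter (fun b => x.SameCycle z b) = {z} := by
      ext b
      rw [Finset.mem_filter, Finset.mem_singleton]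
      constructor
      · rintro ⟨-, hb⟩
        obtain ⟨i, hi⟩ := hb
        rw [← hi]
        exact (Equiv.Perm.zpow_apply_eq_self_of_apply_eq_self (hfixall z hz) i)
      · rintro rfl
        exact ⟨hz, Equiv.Perm.SameCycle.refl _ _⟩
    rw [this, Finset.card_singleton]
    omega
  · obtain ⟨a, rfl⟩ : ∃ a', a = a' + 1 := ⟨a - 1, by omega⟩
    have hne := hmin a (by omega)
    push Not at hne
    obtain ⟨z, hz, hzne⟩ := hne
    have hper := N1.period_eq (ha z hz) hzne
    have hZ := N2.card_cycle hxY hz hper (by positivity)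
    have hZle : (Y.filter (fun b => x.SameCycle z b)).card ≤ Y.card :=
      Finset.card_le_card (Finset.filter_subset _ _)
    have hYf : Y.filter (fun ω => (x ^ 2 ^ (a + 1)) ω = ω) = Y := Finset.filter_true_of_mem ha
    have hn1' := n1' x Y h (a + 1)
    rw [hYf, hk] at hn1'
    rw [hZ, hk] at hZle
    have e1 : a + 1 ≤ k + 1 := (Nat.pow_le_pow_iff_right (by norm_num)).1 hZle
    have e2 : k + 1 ≤ a + 1 + 1 := (Nat.pow_le_pow_iff_right (by norm_num)).1 hn1'
    rcases Nat.lt_or_ge a k with hak | hak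
    · -- `a + 1 = k`
      have hk' : k = a + 1 := by omega
      right
      constructor
      · by_contra hcon
        push Not at hcon
        have hYf2 : Y.filter (fun ω => (x ^ 2 ^ (a + 1)) ω = ω ∧ x ω ≠ ω) = Y :=
          Finset.filter_true_of_mem (fun ω hω => ⟨ha ω hω, hcon ω hω⟩)
        have hn1 := n1 x Y h (a + 1)
        rw [hYf2, hk, hk'] at hn1
        omega
      · refine ⟨z, hz, ?_⟩
        rw [hZ, hk, hk']
        ring
    · -- `a = k`
      have hk' : k = a := by omega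
      left
      have hZY : Y.filter (fun b => x.SameCycle z b) = Y :=
        Finset.eq_of_subset_of_card_le (Finset.filter_subset _ _) (by rw [hZ, hk, hk'])
      intro u hu v hv
      rw [← hZY, Finset.mem_filter] at hu hv
      exact hu.2.symm.trans hv.2

end Cfsg.Agent.Lib.Helper10.USyl
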