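import Cfsg.Agent.Lib.Helper10.USyl.P0
import Cfsg.Agent.Lib.Helper10.USyl.N2
import Cfsg.Agent.Lib.Helper10.USyl.OC
import Cfsg.Agent.Lib.Helper10.USyl.TA
import Cfsg.Agent.Lib.Helper10.USyl.TB

set_option autoImplicit false

namespace Cfsg.Agent.Lib.Helper10.USyl

variable {α : Type*} [Fintype α] [DecidableEq α]

namespace UQ

omit [Fintype α] in
theorem compl2 {D : Subgroup (Equiv.Perm α)} {Y Y1 Y2 : Finset α} (h : Bip D Y Y1 Y2) :
    Y2 = Y \ Y1 := by
  rw [← h.union, Finset.union_sdiff_cancel_left h.disj]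

omit [Fintype α] in
theorem compl1 {D : Subgroup (Equiv.Perm α)} {Y Y1 Y2 : Finset α} (h : Bip D Y Y1 Y2) :
    Y1 = Y \ Y2 := by
  rw [← h.union, Finset.union_sdiff_cancel_right h.disj]

/-- two sets on which `y` is transitive and which are preserved by `y` are equal as soon as they
meet. -/
theorem eq_of_trans {y : Equiv.Perm α} {A B : Finset α} (hA : Trans y A) (hB : Trans y B)
    (pA : Pres y A) (pB : Pres y B) {u : α} (huA : u ∈ A) (huB : u ∈ B) : A = B := by
  ext b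
  constructor
  · intro hb
    exact pB.sameCycle huB (hA u huA b hb)
  · intro hb
    exact pA.sameCycle huA (hB u huB b hb)

end UQ

theorem bip_unique (D : Subgroup (Equiv.Perm α)) (hD : IsPGroup 2 D) {x : Equiv.Perm α} (hx : x ∈ D)
    {Y : Finset α} (hY : IsOrb D Y) (hgood : GoodOn x Y) {Y1 Y2 Y1' Y2' : Finset α}
    (h : Bip D Y Y1 Y2) (h' : Bip D Y Y1' Y2') :
    (Y1' = Y1 ∧ Y2' = Y2) ∨ (Y1' = Y2 ∧ Y2' = Y1) := by
  have hc : 0 < Y.card := Finset.card_pos.2 hY.1
  have hcu : Y.card = Y1.card + Y2.card := by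
    rw [← h.union, Finset.card_union_of_disjoint h.disj]
  have hcc := h.card
  have hcu' : Y.card = Y1'.card + Y2'.card := by
    rw [← h'.union, Finset.card_union_of_disjoint h'.disj]
  have hcc' := h'.card
  obtain ⟨j, hj⟩ := hY.card_eq hD
  obtain ⟨k, rfl⟩ : ∃ k, j = k + 1 := by
    rcases j with _ | k
    · exfalso
      rw [pow_zero] at hj
      omega
    · exact ⟨k, rfl⟩
  have hxe : ∃ e : ℕ, x ^ 2 ^ e = 1 := by
    obtain ⟨e, he⟩ := hD ⟨x, hx⟩
    exact ⟨e, by simpa using congrArg Subtype.val he⟩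
  have c2 := UQ.compl2 h
  have c1 := UQ.compl1 h
  have c2' := UQ.compl2 h'
  have c1' := UQ.compl1 h'
  rcases n2 x hxe Y (hY.pres hx) hgood k hj with htr | ⟨⟨c, hcY, hxc⟩, z, hz, hcard⟩
  · obtain ⟨s, t1, t2⟩ := bip_of_trans h hY.1 hx htr
    obtain ⟨s', t1', t2'⟩ := bip_of_trans h' hY.1 hx htr
    have p := s.mul s
    have p' := s'.mul s'
    rw [← sq] at p p'
    obtain ⟨u, hu⟩ : Y1'.Nonempty := Finset.card_pos.1 (by omega)
    have huY : u ∈ Y1 ∪ Y2 := by
      rw [h.union, ← h'.union]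
      exact Finset.mem_union_left _ hu
    rcases Finset.mem_union.1 huY with hu1 | hu2
    · left
      have e := UQ.eq_of_trans t1' t1 p'.1 p.1 hu hu1
      exact ⟨e, by rw [c2', c2, e]⟩
    · right
      have e := UQ.eq_of_trans t1' t2 p'.1 p.2 hu hu2
      exact ⟨e, by rw [c2', c1, e]⟩
  · obtain ⟨-, hZ⟩ := bip_of_fixed h hx hcY hxc hz hcard
    obtain ⟨-, hZ'⟩ := bip_of_fixed h' hx hcY hxc hz hcard
    rcases hZ with e | e <;> rcases hZ' with e' | e'
    · left
      have e3 : Y1' = Y1 := e'.trans e.symm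
      exact ⟨e3, by rw [c2', c2, e3]⟩
    · right
      have e3 : Y2' = Y1 := e'.trans e.symm
      exact ⟨by rw [c1', c2, e3], e3⟩
    · right
      have e3 : Y1' = Y2 := e'.trans e.symm
      exact ⟨e3, by rw [c2', c1, e3]⟩
    · left
      have e3 : Y2' = Y2 := e'.trans e.symm
      exact ⟨by rw [c1', c1, e3], e3⟩

end Cfsg.Agent.Lib.Helper10.USyl
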