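import Cfsg.Agent.Lib.Helper10.USyl.P0

/-! USyl farm, piece N1: numerics. -/

set_option autoImplicit false

namespace Cfsg.Agent.Lib.Helper10.USyl

variable {α : Type*} [Fintype α] [DecidableEq α]

namespace N1

omit [Fintype α] [DecidableEq α] in
theorem pow_apply_iff (x : Equiv.Perm α) (ω : α) (i : ℕ) :
    (x ^ i) ω = ω ↔ Function.minimalPeriod x ω ∣ i := by
  rw [← Function.isPeriodicPt_iff_minimalPeriod_dvd, Function.IsPeriodicPt, Function.IsFixedPt,
    Equiv.Perm.iterate_eq_pow]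

omit [Fintype α] [DecidableEq α] in
theorem period_eq {x : Equiv.Perm α} {ω : α} {a : ℕ} (h1 : (x ^ 2 ^ (a + 1)) ω = ω)
    (h2 : (x ^ 2 ^ a) ω ≠ ω) : Function.minimalPeriod x ω = 2 ^ (a + 1) := by
  rw [pow_apply_iff] at h1
  rw [Ne, pow_apply_iff] at h2
  obtain ⟨j, hj, hj2⟩ := (Nat.dvd_prime_pow Nat.prime_two).1 h1
  rcases Nat.lt_or_ge j (a + 1) with h | h
  · exfalso
    apply h2
    rw [hj2]
    exact pow_dvd_pow 2 (by omega)
  · have : j = a + 1 := le_antisymm hj h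
    rw [hj2, this]

omit [Fintype α] [DecidableEq α] in
theorem pow_mod_apply {x : Equiv.Perm α} {t : α} {N : ℕ} (h : (x ^ N) t = t) (i : ℕ) :
    (x ^ i) t = (x ^ (i % N)) t := by
  conv_lhs => rw [← Nat.mod_add_div i N, pow_add, pow_mul, Equiv.Perm.mul_apply]
  rw [Equiv.Perm.pow_apply_eq_self_of_apply_eq_self h]

end N1

open N1 in
theorem n1 (x : Equiv.Perm α) (Y : Finset α) (h : GoodOn x Y) (a : ℕ) :
    (Y.filter (fun ω => (x ^ 2 ^ a) ω = ω ∧ x ω ≠ ω)).card + 2 ≤ 2 ^ (a + 1) := by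
  induction a with
  | zero =>
    have : Y.filter (fun ω => (x ^ 2 ^ 0) ω = ω ∧ x ω ≠ ω) = ∅ := by
      apply Finset.filter_eq_empty_iff.2
      intro ω _ hω
      simp at hω
    rw [this]
    simp
  | succ a ih =>
    set T := Y.filter (fun ω => (x ^ 2 ^ (a + 1)) ω = ω ∧ (x ^ 2 ^ a) ω ≠ ω) with hT
    have hsub : Y.filter (fun ω => (x ^ 2 ^ (a + 1)) ω = ω ∧ x ω ≠ ω) ⊆
        Y.filter (fun ω => (x ^ 2 ^ a) ω = ω ∧ x ω ≠ ω) ∪ T := by
      intro ω hω
      rw [Finset.mem_filter] at hω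
      rw [Finset.mem_union, Finset.mem_filter, hT, Finset.mem_filter]
      by_cases h1 : (x ^ 2 ^ a) ω = ω
      · exact Or.inl ⟨hω.1, h1, hω.2.2⟩
      · exact Or.inr ⟨hω.1, hω.2.1, h1⟩
    have hTc : T.card ≤ 2 ^ (a + 1) := by
      rcases T.eq_empty_or_nonempty with h0 | ⟨t, ht⟩
      · rw [h0]; simp
      · have ht' := ht
        rw [hT, Finset.mem_filter] at ht'
        have hpt := period_eq ht'.2.1 ht'.2.2
        have hxt : x t ≠ t := by
          intro hx
          exact ht'.2.2 (Equiv.Perm.pow_apply_eq_self_of_apply_eq_self hx _)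
        have hsub2 : T ⊆ (Finset.range (2 ^ (a + 1))).image (fun i => (x ^ i) t) := by
          intro s hs
          have hs' := hs
          rw [hT, Finset.mem_filter] at hs'
          have hps := period_eq hs'.2.1 hs'.2.2
          have hsp : SamePer x t s := by
            intro i
            rw [pow_apply_iff, pow_apply_iff, hpt, hps]
          obtain ⟨i, -, hi⟩ := (h.same t ht'.1 s hs'.1 hxt hsp).exists_pow_eq'
          rw [Finset.mem_image]
          refine ⟨i % 2 ^ (a + 1), Finset.mem_range.2 (Nat.mod_lt _ (by positivity)), ?_⟩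
          rw [← pow_mod_apply ht'.2.1, hi]
        calc T.card ≤ ((Finset.range (2 ^ (a + 1))).image (fun i => (x ^ i) t)).card :=
              Finset.card_le_card hsub2
          _ ≤ (Finset.range (2 ^ (a + 1))).card := Finset.card_image_le
          _ = 2 ^ (a + 1) := Finset.card_range _
    have h1 := Finset.card_le_card hsub
    have h2 := Finset.card_union_le (Y.filter (fun ω => (x ^ 2 ^ a) ω = ω ∧ x ω ≠ ω)) T
    have h3 : 2 ^ (a + 1 + 1) = 2 ^ (a + 1) + 2 ^ (a + 1) := by ring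
    omega

theorem n1' (x : Equiv.Perm α) (Y : Finset α) (h : GoodOn x Y) (a : ℕ) :
    (Y.filter (fun ω => (x ^ 2 ^ a) ω = ω)).card ≤ 2 ^ (a + 1) := by
  have hsub : Y.filter (fun ω => (x ^ 2 ^ a) ω = ω) ⊆
      Y.filter (fun ω => (x ^ 2 ^ a) ω = ω ∧ x ω ≠ ω) ∪ Y.filter (fun ω => x ω = ω) := by
    intro ω hω
    rw [Finset.mem_filter] at hω
    rw [Finset.mem_union, Finset.mem_filter, Finset.mem_filter]
    by_cases h1 : x ω = ω
    · exact Or.inr ⟨hω.1, h1⟩
    · exact Or.inl ⟨hω.1, hω.2, h1⟩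
  have h1 := Finset.card_le_card hsub
  have h2 := Finset.card_union_le (Y.filter (fun ω => (x ^ 2 ^ a) ω = ω ∧ x ω ≠ ω))
    (Y.filter (fun ω => x ω = ω))
  have h3 := n1 x Y h a
  have h4 := h.fix
  omega

end Cfsg.Agent.Lib.Helper10.USyl
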