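import Cfsg.Agent.Lib.Helper10.USyl.P0

set_option autoImplicit false

namespace Cfsg.Agent.Lib.Helper10.USyl

variable {α : Type*} [Fintype α] [DecidableEq α]

namespace Z0

omit [Fintype α] [DecidableEq α] in
theorem conj_mem {D : Subgroup (Equiv.Perm α)} {g : Equiv.Perm α}
    (hg : g ∈ Subgroup.normalizer (D : Set (Equiv.Perm α))) {d : Equiv.Perm α} (hd : d ∈ D) :
    g * d * g⁻¹ ∈ D := (Subgroup.mem_normalizer_iff.1 hg d).1 hd

omit [Fintype α] [DecidableEq α] in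
theorem conj_mem' {D : Subgroup (Equiv.Perm α)} {g : Equiv.Perm α}
    (hg : g ∈ Subgroup.normalizer (D : Set (Equiv.Perm α))) {d : Equiv.Perm α} (hd : d ∈ D) :
    g⁻¹ * d * g ∈ D := by
  rw [Subgroup.mem_normalizer_iff.1 hg (g⁻¹ * d * g)]
  have : g * (g⁻¹ * d * g) * g⁻¹ = d := by group
  rwa [this]

end Z0

theorem isOrb_gim {D : Subgroup (Equiv.Perm α)} {Y : Finset α} (hY : IsOrb D Y) {g : Equiv.Perm α}
    (hg : g ∈ Subgroup.normalizer (D : Set (Equiv.Perm α))) : IsOrb D (gim g Y) := by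
  refine ⟨?_, ?_⟩
  · obtain ⟨a, ha⟩ := hY.1
    exact ⟨g a, apply_mem_gim.2 ha⟩
  · intro a ha b
    rw [mem_gim] at ha
    rw [mem_gim, hY.2 _ ha]
    constructor
    · rintro ⟨d, hd, e⟩
      refine ⟨g * d * g⁻¹, Z0.conj_mem hg hd, ?_⟩
      rw [Equiv.Perm.mul_apply, Equiv.Perm.mul_apply, e]
      simp
    · rintro ⟨d, hd, e⟩
      refine ⟨g⁻¹ * d * g, Z0.conj_mem' hg hd, ?_⟩
      rw [Equiv.Perm.mul_apply, Equiv.Perm.mul_apply, ← e]
      simp

theorem IsOrb.eq_or_disjoint {D : Subgroup (Equiv.Perm α)} {Y Y' : Finset α} (hY : IsOrb D Y)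
    (hY' : IsOrb D Y') : Y = Y' ∨ Disjoint Y Y' := by
  by_cases h : Disjoint Y Y'
  · exact Or.inr h
  · left
    rw [Finset.not_disjoint_iff] at h
    obtain ⟨a, ha, ha'⟩ := h
    ext b
    rw [hY.2 a ha, hY'.2 a ha']

theorem exists_isOrb (D : Subgroup (Equiv.Perm α)) (a : α) : ∃ Y : Finset α, a ∈ Y ∧ IsOrb D Y := by
  classical
  refine ⟨Finset.univ.filter (fun b => ∃ d ∈ D, d a = b), ?_, ⟨a, ?_⟩, ?_⟩
  · simp only [Finset.mem_filter, Finset.mem_univ, true_and]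
    exact ⟨1, D.one_mem, rfl⟩
  · simp only [Finset.mem_filter, Finset.mem_univ, true_and]
    exact ⟨1, D.one_mem, rfl⟩
  · intro a' ha' b
    simp only [Finset.mem_filter, Finset.mem_univ, true_and] at ha' ⊢
    obtain ⟨d0, hd0, rfl⟩ := ha'
    constructor
    · rintro ⟨d, hd, rfl⟩
      exact ⟨d * d0⁻¹, D.mul_mem hd (D.inv_mem hd0), by simp⟩
    · rintro ⟨d, hd, rfl⟩
      exact ⟨d * d0, D.mul_mem hd hd0, rfl⟩

end Cfsg.Agent.Lib.Helper10.USyl
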