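import Cfsg.Agent.Lib.Helper10.USyl.P0
import Cfsg.Agent.Lib.Helper10.USyl.N1
import Cfsg.Agent.Lib.Helper10.USyl.OC
import Cfsg.Agent.Lib.Helper10.USyl.Z0

set_option autoImplicit false

namespace Cfsg.Agent.Lib.Helper10.USyl

variable {α : Type*} [Fintype α] [DecidableEq α]

namespace Z1

omit [Fintype α] [DecidableEq α] in
theorem pres_of_gim_eq {g : Equiv.Perm α} {Y : Finset α} (h : gim g Y = Y) : Pres g Y := by
  intro a
  conv_lhs => rw [← h]
  exact apply_mem_gim

end Z1

theorem pres_of_normalizer {x : Equiv.Perm α} (hgood : GoodOn x Finset.univ)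
    {D : Subgroup (Equiv.Perm α)} (hD : IsPGroup 2 D) (hx : x ∈ D) {g : Equiv.Perm α}
    (hg : g ∈ Subgroup.normalizer (D : Set (Equiv.Perm α))) {r : ℕ} (hr : Odd r) (hgr : g ^ r = 1) {Y : Finset α} (hY : IsOrb D Y) :
    Pres g Y := by
  by_contra hcon
  have hY1 : IsOrb D (gim g Y) := isOrb_gim hY hg
  have hY2 : IsOrb D (gim g (gim g Y)) := isOrb_gim hY1 hg
  have n01 : Y ≠ gim g Y := fun e => hcon (Z1.pres_of_gim_eq e.symm)
  have n12 : gim g Y ≠ gim g (gim g Y) := by
    intro e
    apply n01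
    unfold gim at e ⊢
    exact (Finset.map_inj.1 e)
  have n02 : Y ≠ gim g (gim g Y) := by
    intro e
    apply hcon
    apply pres_of_sq hr hgr
    intro a
    conv_lhs => rw [e]
    rw [sq, Equiv.Perm.mul_apply, apply_mem_gim, apply_mem_gim]
  have d01 : Disjoint Y (gim g Y) := (hY.eq_or_disjoint hY1).resolve_left n01
  have d12 : Disjoint (gim g Y) (gim g (gim g Y)) := (hY1.eq_or_disjoint hY2).resolve_left n12
  have d02 : Disjoint Y (gim g (gim g Y)) := (hY.eq_or_disjoint hY2).resolve_left n02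
  obtain ⟨k, hk⟩ := hY.card_eq hD
  have hk1 : (gim g Y).card = 2 ^ k := by rw [card_gim, hk]
  have hk2 : (gim g (gim g Y)).card = 2 ^ k := by rw [card_gim, hk1]
  have hsub : (Y ∪ gim g Y) ∪ gim g (gim g Y) ⊆
      Finset.univ.filter (fun ω => (x ^ 2 ^ k) ω = ω) := by
    intro a ha
    simp only [Finset.mem_union] at ha
    simp only [Finset.mem_filter, Finset.mem_univ, true_and]
    rcases ha with (ha | ha) | ha
    · exact hY.pow_fix hD hk hx a ha
    · exact hY1.pow_fix hD hk1 hx a ha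
    · exact hY2.pow_fix hD hk2 hx a ha
  have hc := Finset.card_le_card hsub
  have hdis : Disjoint (Y ∪ gim g Y) (gim g (gim g Y)) := by
    rw [Finset.disjoint_union_left]
    exact ⟨d02, d12⟩
  rw [Finset.card_union_of_disjoint hdis, Finset.card_union_of_disjoint d01, hk, hk1, hk2] at hc
  have h1 := n1' x Finset.univ hgood k
  have hpos : 0 < 2 ^ k := by positivity
  rw [pow_succ] at h1
  omega

end Cfsg.Agent.Lib.Helper10.USyl
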