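import Cfsg.Agent.Lib.Helper10.USyl.BIP
import Cfsg.Agent.Lib.Helper10.USyl.BG
import Cfsg.Agent.Lib.Helper10.USyl.UQ
import Cfsg.Agent.Lib.Helper10.USyl.GH
import Cfsg.Agent.Lib.Helper10.USyl.ST
import Cfsg.Agent.Lib.Helper10.USyl.OD
import Cfsg.Agent.Lib.Helper10.USyl.Z1
import Cfsg.Agent.Lib.Helper10.USyl.U
import Cfsg.Agent.Lib.Helper10.USyl.E4
import Cfsg.Agent.Lib.Helper10.USyl.T1
import Cfsg.Agent.Lib.Helper10.USyl.T2

/-! USyl: the assembly. -/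

set_option autoImplicit false

namespace Cfsg.Agent.Lib.Helper10.USyl

variable {α : Type*} [Fintype α] [DecidableEq α]

theorem step {g : Equiv.Perm α} {r : ℕ} (hr : Odd r) (hgr : g ^ r = 1)
    (D : Subgroup (Equiv.Perm α)) (hD : IsPGroup 2 D)
    (hgD : g ∈ Subgroup.normalizer (D : Set (Equiv.Perm α))) (Y : Finset α) (hY : IsOrb D Y)
    (hgY : Pres g Y) (x : Equiv.Perm α) (hxD : x ∈ D) (hgood : GoodOn x Y) (h2 : 2 ≤ Y.card) :
    ∃ (D1 : Subgroup (Equiv.Perm α)) (x1 : Equiv.Perm α) (Y1 Y2 : Finset α),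
      IsPGroup 2 D1 ∧ g ∈ Subgroup.normalizer (D1 : Set (Equiv.Perm α)) ∧ x1 ∈ D1 ∧ Y1 ∪ Y2 = Y ∧
      Y1.card < Y.card ∧ Y2.card < Y.card ∧ IsOrb D1 Y1 ∧ IsOrb D1 Y2 ∧ Pres g Y1 ∧ Pres g Y2 ∧
      GoodOn x1 Y1 ∧ GoodOn x1 Y2 := by
  obtain ⟨Y1, Y2, hb⟩ := exists_bip D hD Y hY h2
  have hb' := hb.conj hgD hgY
  have hu := bip_unique D hD hxD hY hgood hb hb'
  obtain ⟨hg1, hg2⟩ := pres_of_gim_cases hr hgr hu
  obtain ⟨x1, hx1, hgo1, hgo2⟩ := exists_good_half D hD hxD hY hgood hb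
  obtain ⟨ho1, ho2⟩ := hb.isOrb hY
  have hcard : Y.card = Y1.card + Y2.card := by
    rw [← hb.union, Finset.card_union_of_disjoint hb.disj]
  have hc := hb.card
  refine ⟨stab D Y1, x1, Y1, Y2, hD.to_le (stab_le D Y1), normalizer_stab hgD hg1, hx1, hb.union,
    by omega, by omega, ho1, ho2, hg1, hg2, hgo1, hgo2⟩

theorem fixes_orbit {g : Equiv.Perm α} {r : ℕ} (hr : Odd r) (hgr : g ^ r = 1) :
    ∀ (N : ℕ) (D : Subgroup (Equiv.Perm α)) (_ : IsPGroup 2 D)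
      (_ : g ∈ Subgroup.normalizer (D : Set (Equiv.Perm α))) (Y : Finset α) (_ : IsOrb D Y)
      (_ : Pres g Y) (x : Equiv.Perm α) (_ : x ∈ D) (_ : GoodOn x Y), Y.card ≤ N →
      ∀ a ∈ Y, g a = a := by
  intro N
  induction N with
  | zero =>
    intro D _ _ Y _ _ x _ _ hN a ha
    have : Y = ∅ := Finset.card_eq_zero.1 (Nat.le_zero.1 hN)
    rw [this] at ha
    exact absurd ha (Finset.notMem_empty a)
  | succ N ih =>
    intro D hD hgD Y hY hgY x hxD hgood hN a ha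
    by_cases h2 : 2 ≤ Y.card
    · obtain ⟨D1, x1, Y1, Y2, hD1, hgD1, hx1, hun, hc1, hc2, ho1, ho2, hg1, hg2, hgo1, hgo2⟩ :=
        step hr hgr D hD hgD Y hY hgY x hxD hgood h2
      rw [← hun, Finset.mem_union] at ha
      rcases ha with ha | ha
      · exact ih D1 hD1 hgD1 Y1 ho1 hg1 x1 hx1 hgo1 (by omega) a ha
      · exact ih D1 hD1 hgD1 Y2 ho2 hg2 x1 hx1 hgo2 (by omega) a ha
    · have h1 : Y.card ≤ 1 := by omega
      exact Finset.card_le_one.1 h1 _ ((hgY a).2 ha) _ ha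

theorem normalizer_isPGroup {x : Equiv.Perm α} (hgood : GoodOn x Finset.univ)
    (D : Subgroup (Equiv.Perm α)) (hD : IsPGroup 2 D) (hxD : x ∈ D) :
    IsPGroup 2 (Subgroup.normalizer (D : Set (Equiv.Perm α))) := by
  apply isPGroup_two_of_odd_trivial
  intro g hg r hr hgr
  ext a
  obtain ⟨Y, haY, hY⟩ := exists_isOrb D a
  have hgY : Pres g Y := pres_of_normalizer hgood hD hxD hg hr hgr hY
  rw [Equiv.Perm.one_apply]
  exact fixes_orbit hr hgr Y.card D hD hg Y hY hgY x hxD (hgood.mono (Finset.subset_univ _)) le_rfl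
    a haY

theorem good_iff (x : Equiv.Perm α) :
    GoodOn x Finset.univ ↔ (Fintype.card α ≤ x.support.card + 2 ∧ x.cycleType.Nodup) := by
  rw [← fix_iff, ← same_iff]
  constructor
  · intro h
    exact ⟨h.fix, fun a b => h.same a (Finset.mem_univ _) b (Finset.mem_univ _)⟩
  · intro h
    exact ⟨fun a _ b _ => h.2 a b, h.1⟩

theorem main (x : Equiv.Perm α) (hx : ∃ k : ℕ, orderOf x = 2 ^ k) :
    (∃! P : Sylow 2 (Equiv.Perm α), x ∈ P) ↔
      (Fintype.card α ≤ x.support.card + 2 ∧ x.cycleType.Nodup) := by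
  have hx2 : IsPGroup 2 (Subgroup.zpowers x) := by
    obtain ⟨k, hk⟩ := hx
    exact IsPGroup.of_card (n := k) (by rw [Nat.card_zpowers, hk])
  rw [← good_iff]
  constructor
  · exact good_of_unique x hx2
  · intro hgood
    exact unique_sylow_of_normalizers x hx2 (fun D hD hxD => normalizer_isPGroup hgood D hD hxD)

end Cfsg.Agent.Lib.Helper10.USyl
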