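import Cfsg.Agent.Lib.Helper10.USyl.Defs

/-! USyl farm, piece P0: basic lemmas. -/

set_option autoImplicit false

namespace Cfsg.Agent.Lib.Helper10.USyl

variable {α : Type*} [Fintype α] [DecidableEq α]

omit [Fintype α] [DecidableEq α] in
theorem Pres.pow {d : Equiv.Perm α} {Y : Finset α} (h : Pres d Y) (n : ℕ) : Pres (d ^ n) Y := by
  induction n with
  | zero => rw [pow_zero]; exact Pres.one Y
  | succ n ih => rw [pow_succ]; exact ih.mul h

omit [Fintype α] [DecidableEq α] in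
theorem Pres.zpow {d : Equiv.Perm α} {Y : Finset α} (h : Pres d Y) (n : ℤ) : Pres (d ^ n) Y := by
  cases n with
  | ofNat n => rw [Int.ofNat_eq_natCast, zpow_natCast]; exact h.pow n
  | negSucc n => rw [zpow_negSucc]; exact (h.pow _).inv

omit [Fintype α] in
theorem pres_of_mapsTo {d : Equiv.Perm α} {Y : Finset α} (h : ∀ a ∈ Y, d a ∈ Y) : Pres d Y := by
  have hsub : Y.image d ⊆ Y := by
    intro b hb
    obtain ⟨a, ha, rfl⟩ := Finset.mem_image.1 hb
    exact h a ha
  have heq : Y.image d = Y :=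
    Finset.eq_of_subset_of_card_le hsub (by rw [Finset.card_image_of_injective _ d.injective])
  intro a
  constructor
  · intro ha
    rw [← heq] at ha
    obtain ⟨a', ha', h'⟩ := Finset.mem_image.1 ha
    rwa [← d.injective h']
  · exact h a

omit [Fintype α] [DecidableEq α] in
theorem Swp.mul {d d' : Equiv.Perm α} {Y1 Y2 : Finset α} (h : Swp d Y1 Y2) (h' : Swp d' Y1 Y2) :
    Pres (d * d') Y1 ∧ Pres (d * d') Y2 := by
  constructor
  · intro a
    rw [Equiv.Perm.mul_apply, (h _).2, (h' _).1]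
  · intro a
    rw [Equiv.Perm.mul_apply, (h _).1, (h' _).2]

omit [Fintype α] [DecidableEq α] in
theorem IsOrb.pres {D : Subgroup (Equiv.Perm α)} {Y : Finset α} (h : IsOrb D Y) {d : Equiv.Perm α}
    (hd : d ∈ D) : Pres d Y := by
  intro a
  constructor
  · intro ha
    exact (h.2 _ ha a).2 ⟨d⁻¹, D.inv_mem hd, by simp⟩
  · intro ha
    exact (h.2 _ ha _).2 ⟨d, hd, rfl⟩

omit [Fintype α] [DecidableEq α] in
theorem Pres.sameCycle {x : Equiv.Perm α} {Y : Finset α} (h : Pres x Y) {a b : α} (ha : a ∈ Y)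
    (hab : x.SameCycle a b) : b ∈ Y := by
  obtain ⟨i, rfl⟩ := hab
  exact (h.zpow i a).2 ha

omit [Fintype α] [DecidableEq α] in
/-- [ODD] -/
theorem pres_of_sq {g : Equiv.Perm α} {r : ℕ} (hr : Odd r) (hgr : g ^ r = 1) {Y : Finset α}
    (h : Pres (g ^ 2) Y) : Pres g Y := by
  obtain ⟨m, rfl⟩ := hr
  have : g = (g ^ 2) ^ (m + 1) := by
    rw [← pow_mul, mul_add, mul_one, show 2 * m + 2 = (2 * m + 1) + 1 by ring, pow_succ, hgr, one_mul]
  rw [this]
  exact h.pow _

omit [Fintype α] in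
theorem GoodOn.mono {x : Equiv.Perm α} {Y Y' : Finset α} (h : GoodOn x Y) (hY : Y' ⊆ Y) :
    GoodOn x Y' :=
  ⟨fun a ha b hb => h.same a (hY ha) b (hY hb),
    le_trans (Finset.card_le_card (Finset.filter_subset_filter _ hY)) h.fix⟩

omit [Fintype α] in
theorem goodOn_of_trans {x : Equiv.Perm α} {Y : Finset α} (h : Trans x Y) : GoodOn x Y := by
  refine ⟨fun a ha b hb _ _ => h a ha b hb, ?_⟩
  have : (Y.filter (fun a => x a = a)).card ≤ 1 := by
    rw [Finset.card_le_one]
    intro a ha b hb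
    rw [Finset.mem_filter] at ha hb
    obtain ⟨i, hi⟩ := h a ha.1 b hb.1
    have hfix : (x ^ i) a = a := Equiv.Perm.zpow_apply_eq_self_of_apply_eq_self ha.2 i
    rw [← hi, hfix]
  omega

end Cfsg.Agent.Lib.Helper10.USyl
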